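import Mathlib.RingTheory.Smooth.Basic
import Mathlib.Tactic

/-!
# The conormal module of a retract of a smooth algebra is finite projective

`A` smooth over `R`, `A₀ → A` an `R`-algebra map with a retraction `π : A → A₀`, `I = ker π`. Then
`I/I²` is a finite projective `A₀`-module (a direct summand of `A₀ ⊗_A Ω_{A/R}`).
-/

set_option autoImplicit false

open TensorProduct KaehlerDifferential

namespace K933.CotProj

universe u

variable (R A₀ A : Type u) [CommRing R] [CommRing A₀] [CommRing A] [Algebra R A₀] [Algebra R A]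
  [Algebra A₀ A] [IsScalarTower R A₀ A]

theorem projective_cotangent [Algebra.Smooth R A] (π : A →ₐ[A₀] A₀) :
    Module.Projective A₀ (RingHom.ker (π : A →+* A₀)).Cotangent ∧
      Module.Finite A₀ (RingHom.ker (π : A →+* A₀)).Cotangent := by
  letI : Algebra A A₀ := (π : A →+* A₀).toAlgebra
  have hπ : ∀ a₀ : A₀, π (algebraMap A₀ A a₀) = a₀ := fun a₀ => π.commutes a₀
  have halg : ∀ a : A, algebraMap A A₀ a = π a := fun a => rfl
  haveI : IsScalarTower R A A₀ := IsScalarTower.of_algebraMap_eq (fun r => by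
    rw [halg, IsScalarTower.algebraMap_apply R A₀ A, hπ])
  have hsurj : Function.Surjective (algebraMap A A₀) := fun a₀ => ⟨algebraMap A₀ A a₀, hπ a₀⟩
  -- `A₀` is formally smooth over `R`
  let f : A →ₐ[R] A₀ := π.restrictScalars R
  haveI hfs : Algebra.FormallySmooth R A₀ := by
    refine Algebra.FormallySmooth.of_split f
      ((Ideal.Quotient.mkₐ R (RingHom.ker f.toRingHom ^ 2)).comp (IsScalarTower.toAlgHom R A₀ A)) ?_
    ext a₀
    exact hπ a₀
  obtain ⟨l, hl⟩ := (Algebra.FormallySmooth.iff_split_injection (R := R) (P := A) (A := A₀)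
    hsurj).1 hfs
  haveI : IsScalarTower A₀ A A₀ := ⟨fun a₀ a x => by
    rw [Algebra.smul_def (a₀ • a) x, Algebra.smul_def a x, halg, halg, map_smul, smul_eq_mul,
      smul_eq_mul, mul_assoc]⟩
  haveI : IsScalarTower A₀ A (A₀ ⊗[A] Ω[A⁄R]) := TensorProduct.isScalarTower_left
  let l' : A₀ ⊗[A] Ω[A⁄R] →ₗ[A₀] (RingHom.ker (algebraMap A A₀)).Cotangent := l.restrictScalars A₀
  let i' : (RingHom.ker (algebraMap A A₀)).Cotangent →ₗ[A₀] A₀ ⊗[A] Ω[A⁄R] :=
    (kerCotangentToTensor R A A₀).restrictScalars A₀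
  have hli : l'.comp i' = LinearMap.id := by
    ext x
    exact LinearMap.congr_fun hl x
  constructor
  · exact Module.Projective.of_split i' l' hli
  · refine Module.Finite.of_surjective l' (fun x => ⟨i' x, ?_⟩)
    exact LinearMap.congr_fun hli x

end K933.CotProj
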