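import Mathlib.RingTheory.Smooth.Basic
import Mathlib.RingTheory.Nilpotent.Basic
import Mathlib.Tactic

/-!
# Kernels of maps into formally smooth algebras which are isomorphisms to first order

Let `φ : B → A` be a homomorphism of `R`-algebras, `A` formally smooth over `R`, and let `J ⊆ B`,
`I ⊆ A` be ideals such that `φ` induces an isomorphism `B/J² → A/I²`, and maps `J` into `I`. Then
`ker φ ⊆ ⋂ Jᵏ`: lifting `A → A/I² = B/J²` to `ψ : A → B/Jᵏ⁺¹`, the composite `ψ φ` is congruent to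
the projection modulo `J²`, hence it is the identity on `Jᵏ/Jᵏ⁺¹`.
-/

set_option autoImplicit false

namespace K933.FSKer

variable {R A B : Type*} [CommRing R] [CommRing A] [CommRing B] [Algebra R A] [Algebra R B]

/-- a ring map `θ : B → B/K` congruent to the projection modulo `J²` is congruent to the projection
modulo `Jʲ⁺¹` on `Jʲ`. -/
theorem sub_mem {J K : Ideal B} (θ : B →+* B ⧸ K)
    (hθ : ∀ b, θ b - Ideal.Quotient.mk K b ∈ (J ^ 2).map (Ideal.Quotient.mk K)) (j : ℕ) :
    ∀ b ∈ J ^ j, θ b - Ideal.Quotient.mk K b ∈ (J ^ (j + 1)).map (Ideal.Quotient.mk K) := by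
  have hmk : ∀ (i : ℕ) (b : B), b ∈ J ^ i →
      Ideal.Quotient.mk K b ∈ (J ^ i).map (Ideal.Quotient.mk K) :=
    fun i b hb => Ideal.mem_map_of_mem _ hb
  have hmono : ∀ {i i' : ℕ}, i ≤ i' → (J ^ i').map (Ideal.Quotient.mk K) ≤
      (J ^ i).map (Ideal.Quotient.mk K) := fun h => Ideal.map_mono (Ideal.pow_le_pow_right h)
  have hmul : ∀ (i i' : ℕ) (x y : B ⧸ K), x ∈ (J ^ i).map (Ideal.Quotient.mk K) →
      y ∈ (J ^ i').map (Ideal.Quotient.mk K) → x * y ∈ (J ^ (i + i')).map (Ideal.Quotient.mk K) := by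
    intro i i' x y hx hy
    rw [pow_add, Ideal.map_mul]
    exact Ideal.mul_mem_mul hx hy
  induction j with
  | zero => intro b _; exact hmono (by omega) (hθ b)
  | succ j ih =>
    intro b hb
    rw [pow_succ'] at hb
    refine Submodule.mul_induction_on hb ?_ ?_
    · intro x hx y hy
      have h1 := hθ x
      have h2 := ih y hy
      have h3 : θ y ∈ (J ^ j).map (Ideal.Quotient.mk K) := by
        have h4 : θ y = (θ y - Ideal.Quotient.mk K y) + Ideal.Quotient.mk K y := by ring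
        rw [h4]
        exact Ideal.add_mem _ (hmono (by omega) h2) (hmk j y hy)
      have h5 : θ (x * y) - Ideal.Quotient.mk K (x * y) =
          (θ x - Ideal.Quotient.mk K x) * θ y +
            Ideal.Quotient.mk K x * (θ y - Ideal.Quotient.mk K y) := by
        rw [map_mul, map_mul]
        ring
      rw [h5]
      refine Ideal.add_mem _ ?_ ?_
      · have := hmul 2 j _ _ h1 h3
        exact hmono (by omega) this
      · have := hmul 1 (j + 1) _ _ (hmk 1 x (by rwa [pow_one])) h2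
        exact hmono (by omega) this
    · intro x y hx hy
      have h5 : θ (x + y) - Ideal.Quotient.mk K (x + y) =
          (θ x - Ideal.Quotient.mk K x) + (θ y - Ideal.Quotient.mk K y) := by
        rw [map_add, map_add]
        ring
      rw [h5]
      exact Ideal.add_mem _ hx hy

theorem ker_le_pow [Algebra.FormallySmooth R A] (φ : B →ₐ[R] A) (J : Ideal B) (I : Ideal A)
    (hJ : ∀ b ∈ J, φ b ∈ I) (h1 : ∀ b, φ b ∈ I ^ 2 → b ∈ J ^ 2)
    (h2 : ∀ a, ∃ b, a - φ b ∈ I ^ 2) (k : ℕ) : ∀ b, φ b = 0 → b ∈ J ^ k := by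
  have hJ2 : ∀ b ∈ J ^ 2, φ b ∈ I ^ 2 := by
    intro b hb
    have h : J ≤ I.comap (φ : B →+* A) := fun b hb => hJ b hb
    exact Ideal.le_comap_pow (φ : B →+* A) 2 (Ideal.pow_right_mono h 2 hb)
  have hb2 : ∀ b, φ b = 0 → b ∈ J ^ 2 := fun b hb => h1 b (by rw [hb]; exact Ideal.zero_mem _)
  induction k with
  | zero => intro b _; rw [pow_zero, Ideal.one_eq_top]; trivial
  | succ k ih =>
    by_cases hk : k < 1
    · intro b hb
      exact Ideal.pow_le_pow_right (by omega) (hb2 b hb)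
    push Not at hk
    set K : Ideal B := J ^ (k + 1) with hK
    have hKJ : K ≤ J ^ 2 := Ideal.pow_le_pow_right (by omega)
    let f : B →ₐ[R] A ⧸ (I ^ 2) := (Ideal.Quotient.mkₐ R (I ^ 2)).comp φ
    have hf : ∀ b, f b = 0 ↔ b ∈ J ^ 2 := by
      intro b
      change Ideal.Quotient.mk (I ^ 2) (φ b) = 0 ↔ _
      rw [Ideal.Quotient.eq_zero_iff_mem]
      exact ⟨h1 b, hJ2 b⟩
    let g : B ⧸ K →ₐ[R] A ⧸ (I ^ 2) := Ideal.Quotient.liftₐ K f (fun b hb => (hf b).2 (hKJ hb))
    have hg0 : ∀ b, g (Ideal.Quotient.mk K b) = f b := fun b => rfl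
    have hker : RingHom.ker (g : B ⧸ K →+* A ⧸ (I ^ 2)) = (J ^ 2).map (Ideal.Quotient.mk K) := by
      apply le_antisymm
      · intro x hx
        obtain ⟨b, rfl⟩ := Ideal.Quotient.mk_surjective x
        have : f b = 0 := hx
        exact Ideal.mem_map_of_mem _ ((hf b).1 this)
      · rw [Ideal.map_le_iff_le_comap]
        intro b hb
        exact (hf b).2 hb
    have hgs : Function.Surjective g := by
      intro x
      obtain ⟨a, rfl⟩ := Ideal.Quotient.mk_surjective x
      obtain ⟨b, hb⟩ := h2 a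
      refine ⟨Ideal.Quotient.mk K b, ?_⟩
      rw [hg0]
      change Ideal.Quotient.mk (I ^ 2) (φ b) = _
      exact (Ideal.Quotient.eq.2 hb).symm
    have hnil : IsNilpotent (RingHom.ker (g : B ⧸ K →+* A ⧸ (I ^ 2))) := by
      refine ⟨k + 1, ?_⟩
      rw [hker, ← Ideal.map_pow, ← pow_mul, Ideal.zero_eq_bot, eq_bot_iff, Ideal.map_le_iff_le_comap]
      intro b hb
      change Ideal.Quotient.mk K b ∈ (⊥ : Ideal (B ⧸ K))
      rw [Ideal.mem_bot, Ideal.Quotient.eq_zero_iff_mem]
      exact Ideal.pow_le_pow_right (by omega) hb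
    let ψ : A →ₐ[R] B ⧸ K :=
      Algebra.FormallySmooth.liftOfSurjective (Ideal.Quotient.mkₐ R (I ^ 2)) g hgs hnil
    have hψ : ∀ a, g (ψ a) = Ideal.Quotient.mk (I ^ 2) a := fun a =>
      Algebra.FormallySmooth.liftOfSurjective_apply (Ideal.Quotient.mkₐ R (I ^ 2)) g hgs hnil a
    let θ : B →+* B ⧸ K := (ψ : A →+* B ⧸ K).comp (φ : B →+* A)
    have hθ : ∀ b, θ b - Ideal.Quotient.mk K b ∈ (J ^ 2).map (Ideal.Quotient.mk K) := by
      intro b
      rw [← hker, RingHom.mem_ker, map_sub, sub_eq_zero]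
      change g (ψ (φ b)) = g (Ideal.Quotient.mk K b)
      rw [hψ, hg0]
      rfl
    intro b hb
    have h3 := sub_mem θ hθ k b (ih b hb)
    have h4 : (J ^ (k + 1)).map (Ideal.Quotient.mk K) = ⊥ := by
      rw [← hK]
      exact Ideal.map_quotient_self K
    have h5 : θ b = 0 := by
      change ψ (φ b) = 0
      rw [hb, map_zero]
    rw [h4, h5, Ideal.mem_bot, zero_sub, neg_eq_zero, Ideal.Quotient.eq_zero_iff_mem] at h3
    exact h3

end K933.FSKer
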