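import Mathlib.GroupTheory.Finiteness
import Mathlib.Order.WellQuasiOrder
import Mathlib.Order.WellFoundedSet
import Mathlib.Algebra.Order.BigOperators.Group.Finset
import Mathlib.Tactic

/-!
# A degree function on a fine sharp monoid

For a finitely generated, cancellative commutative monoid `N` whose only invertible element is `0`
there is `ℓ : N → ℕ` with `ℓ a < ℓ (a + b)` for `b ≠ 0` (the largest length of an expression as
a sum of generators, finite by Dickson's lemma).
-/

set_option autoImplicit false

namespace K933.SharpDeg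

variable {N : Type*} [AddCommMonoid N]

theorem eq_zero_of_add_eq_zero (hsharp : ∀ n : N, IsAddUnit n → n = 0) {a b : N} (h : a + b = 0) :
    a = 0 ∧ b = 0 := by
  have ha : IsAddUnit a := ⟨⟨a, b, h, by rw [add_comm, h]⟩, rfl⟩
  have hb : IsAddUnit b := ⟨⟨b, a, by rw [add_comm, h], h⟩, rfl⟩
  exact ⟨hsharp a ha, hsharp b hb⟩

theorem exists_degree [AddMonoid.FG N] [IsCancelAdd N] (hsharp : ∀ n : N, IsAddUnit n → n = 0) :
    ∃ ℓ : N → ℕ, ∀ a b : N, b ≠ 0 → ℓ a < ℓ (a + b) := by
  classical
  obtain ⟨S₀, hS₀⟩ := (AddMonoid.FG.fg_top (M := N) : (⊤ : AddSubmonoid N).FG)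
  -- discard `0`
  let S : Finset N := S₀.filter (fun s => s ≠ 0)
  have hS : AddSubmonoid.closure (S : Set N) = ⊤ := by
    rw [eq_top_iff, ← hS₀, AddSubmonoid.closure_le]
    intro s hs
    by_cases h : s = 0
    · rw [h]; exact AddSubmonoid.zero_mem _
    · exact AddSubmonoid.subset_closure (Finset.mem_filter.2 ⟨hs, h⟩)
  have hS0 : ∀ s : S, (s : N) ≠ 0 := fun s => (Finset.mem_filter.1 s.2).2
  let p : (S → ℕ) →+ N :=
    { toFun := fun e => ∑ s : S, e s • (s : N)
      map_zero' := by simp
      map_add' := fun e e' => by simp [add_smul, Finset.sum_add_distrib] }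
  have hp : Function.Surjective p := by
    intro n
    have hn : n ∈ AddSubmonoid.closure (S : Set N) := by rw [hS]; trivial
    induction hn using AddSubmonoid.closure_induction with
    | mem x hx =>
      refine ⟨Pi.single ⟨x, hx⟩ 1, ?_⟩
      change ∑ s : S, (Pi.single (⟨x, hx⟩ : S) (1 : ℕ) : S → ℕ) s • (s : N) = x
      rw [Finset.sum_eq_single (⟨x, hx⟩ : S)]
      · simp
      · intro s _ hs
        rw [Pi.single_eq_of_ne hs, zero_smul]
      · intro h
        exact absurd (Finset.mem_univ _) h
    | zero => exact ⟨0, map_zero p⟩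
    | add x y _ _ hx hy =>
      obtain ⟨e, rfl⟩ := hx
      obtain ⟨e', rfl⟩ := hy
      exact ⟨e + e', map_add p e e'⟩
  have hp0 : ∀ e, p e = 0 → e = 0 := by
    intro e he
    funext s
    have h1 : p e = e s • (s : N) + ∑ s' ∈ Finset.univ.erase s, e s' • (s' : N) :=
      (Finset.add_sum_erase Finset.univ (fun s' : S => e s' • (s' : N)) (Finset.mem_univ s)).symm
    rw [he] at h1
    have h2 := (eq_zero_of_add_eq_zero hsharp h1.symm).1
    by_contra hne
    obtain ⟨m, hm⟩ : ∃ m, e s = m + 1 := ⟨e s - 1, by have : e s ≠ 0 := hne; omega⟩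
    rw [hm, add_smul, one_smul] at h2
    exact hS0 s (eq_zero_of_add_eq_zero hsharp h2).2
  -- the fibres are antichains, hence finite
  have hanti : ∀ n, IsAntichain (· ≤ ·) {e | p e = n} := by
    intro n e he e' he' hne hle
    apply hne
    have h1 : e' = e + (e' - e) := by
      funext s
      have : e s ≤ e' s := hle s
      simp only [Pi.add_apply, Pi.sub_apply]
      omega
    have h2 : p e + p (e' - e) = p e + 0 := by
      rw [← map_add, ← h1, add_zero]
      exact he'.trans he.symm
    have h3 := hp0 _ (add_left_cancel h2)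
    rw [h3, add_zero] at h1
    exact h1.symm
  have hfin : ∀ n, {e | p e = n}.Finite := fun n =>
    WellQuasiOrderedLE.finite_of_isAntichain (hanti n)
  let len : (S → ℕ) → ℕ := fun e => ∑ s : S, e s
  let ℓ : N → ℕ := fun n => (hfin n).toFinset.sup len
  refine ⟨ℓ, fun a b hb => ?_⟩
  obtain ⟨e', he'⟩ := hp b
  have hlen : 0 < len e' := by
    rw [Nat.pos_iff_ne_zero]
    intro h
    apply hb
    rw [← he']
    have h1 : e' = 0 := by
      funext s
      exact (Finset.sum_eq_zero_iff.1 h) s (Finset.mem_univ s)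
    rw [h1, map_zero]
  have hne : (hfin a).toFinset.Nonempty := by
    obtain ⟨e, he⟩ := hp a
    exact ⟨e, (hfin a).mem_toFinset.2 he⟩
  obtain ⟨e, he, hmax⟩ := Finset.exists_mem_eq_sup _ hne len
  have he2 : p e = a := (hfin a).mem_toFinset.1 he
  have h1 : len (e + e') ≤ ℓ (a + b) := by
    apply Finset.le_sup (f := len)
    rw [(hfin (a + b)).mem_toFinset]
    change p (e + e') = a + b
    rw [map_add, he2, he']
  have h2 : len (e + e') = len e + len e' := Finset.sum_add_distrib
  have h3 : ℓ a = len e := hmax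
  omega

end K933.SharpDeg
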