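import Mathlib.LinearAlgebra.SymmetricAlgebra.Basis
import Mathlib.RingTheory.MvPolynomial.Ideal
import Mathlib.Algebra.Module.Projective
import Mathlib.Tactic

/-!
# The augmentation ideal of the symmetric algebra of a projective module

* `plus A P`: the augmentation ideal of `Sym_A(P)`.
* `exists_first_order`: modulo `plus²` every element is `a + ι p`.
* `eq_zero_of_forall_mem_pow`: for `P` projective `⋂ plusᵏ = 0`.
-/

set_option autoImplicit false

open SymmetricAlgebra

namespace K933.SymInt

variable (A P : Type*) [CommRing A] [AddCommGroup P] [Module A P]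

/-- the augmentation ideal -/
def plus : Ideal (SymmetricAlgebra A P) :=
  RingHom.ker ((algebraMapInv : SymmetricAlgebra A P →ₐ[A] A) : SymmetricAlgebra A P →+* A)

variable {A P}

lemma mem_plus (b : SymmetricAlgebra A P) : b ∈ plus A P ↔ algebraMapInv b = 0 := Iff.rfl

lemma ι_mem_plus (p : P) : ι A P p ∈ plus A P := by
  rw [mem_plus, algebraMapInv_ι]

lemma exists_first_order (b : SymmetricAlgebra A P) :
    ∃ (a : A) (p : P), b - algebraMap A _ a - ι A P p ∈ plus A P ^ 2 := by
  induction b using SymmetricAlgebra.induction with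
  | algebraMap r => exact ⟨r, 0, by simp⟩
  | ι x => exact ⟨0, x, by simp⟩
  | mul b c hb hc =>
    obtain ⟨a, p, h1⟩ := hb
    obtain ⟨a', p', h2⟩ := hc
    refine ⟨a * a', a • p' + a' • p, ?_⟩
    have h3 : b * c - algebraMap A _ (a * a') - ι A P (a • p' + a' • p) =
        (b - algebraMap A _ a - ι A P p) * c +
          (algebraMap A _ a + ι A P p) * (c - algebraMap A _ a' - ι A P p') +
            ι A P p * ι A P p' := by
      rw [map_mul, map_add, map_smul, map_smul, Algebra.smul_def, Algebra.smul_def]
      ring
    rw [h3]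
    refine Ideal.add_mem _ (Ideal.add_mem _ (Ideal.mul_mem_right _ _ h1)
      (Ideal.mul_mem_left _ _ h2)) ?_
    rw [pow_two]
    exact Ideal.mul_mem_mul (ι_mem_plus p) (ι_mem_plus p')
  | add b c hb hc =>
    obtain ⟨a, p, h1⟩ := hb
    obtain ⟨a', p', h2⟩ := hc
    refine ⟨a + a', p + p', ?_⟩
    have h3 : b + c - algebraMap A _ (a + a') - ι A P (p + p') =
        (b - algebraMap A _ a - ι A P p) + (c - algebraMap A _ a' - ι A P p') := by
      rw [map_add, map_add]
      ring
    rw [h3]
    exact Ideal.add_mem _ h1 h2

lemma eq_zero_of_forall_mem_pow [Module.Projective A P] (b : SymmetricAlgebra A P)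
    (hb : ∀ k : ℕ, b ∈ plus A P ^ k) : b = 0 := by
  obtain ⟨s, hs⟩ := Module.Projective.out (R := A) (P := P)
  -- `Sym(P) → A[X_p]` has a retraction
  let v : (P →₀ A) →ₗ[A] MvPolynomial P A := Finsupp.linearCombination A MvPolynomial.X
  let F : SymmetricAlgebra A P →ₐ[A] MvPolynomial P A := SymmetricAlgebra.lift (v.comp s)
  let G : MvPolynomial P A →ₐ[A] SymmetricAlgebra A P := MvPolynomial.aeval (fun p => ι A P p)
  have hGv : ∀ x : P →₀ A, G (v x) = ι A P (Finsupp.linearCombination A id x) := by
    intro x
    induction x using Finsupp.induction_linear with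
    | zero => simp
    | add x y hx hy => rw [map_add, map_add, hx, hy, map_add, map_add]
    | single p a =>
      simp [v, G, Finsupp.linearCombination_single]
  have hGF : G.comp F = AlgHom.id A _ := by
    apply SymmetricAlgebra.algHom_ext
    ext p
    change G (F (ι A P p)) = ι A P p
    rw [SymmetricAlgebra.lift_ι_apply]
    change G (v (s p)) = _
    rw [hGv, hs p]
  have hF : ∀ x, x ∈ plus A P → F x ∈ MvPolynomial.idealOfVars P A := by
    intro x hx
    have h1 : (MvPolynomial.aeval (fun _ : P => (0 : A))).comp F = algebraMapInv := by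
      apply SymmetricAlgebra.algHom_ext
      ext p
      change MvPolynomial.aeval (fun _ : P => (0 : A)) (F (ι A P p)) = algebraMapInv (ι A P p)
      rw [SymmetricAlgebra.lift_ι_apply, algebraMapInv_ι]
      change MvPolynomial.aeval (fun _ : P => (0 : A)) (v (s p)) = 0
      induction (s p) using Finsupp.induction_linear with
      | zero => simp
      | add x y hx hy => rw [map_add, map_add, hx, hy, add_zero]
      | single p a => simp [v, Finsupp.linearCombination_single]
    have h2 : MvPolynomial.aeval (fun _ : P => (0 : A)) (F x) = 0 := by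
      have := AlgHom.congr_fun h1 x
      exact this.trans hx
    rw [← pow_one (MvPolynomial.idealOfVars P A), MvPolynomial.mem_pow_idealOfVars_iff']
    intro m hm
    have hm0 : m = 0 := by
      rw [← Finsupp.degree_eq_zero_iff]
      omega
    rw [hm0, ← MvPolynomial.constantCoeff_eq]
    rw [← h2]
    exact (MvPolynomial.aeval_zero' (F x)).symm
  have hFb : ∀ k, F b ∈ MvPolynomial.idealOfVars P A ^ k := by
    intro k
    let F' : SymmetricAlgebra A P →+* MvPolynomial P A := F
    have h : plus A P ≤ (MvPolynomial.idealOfVars P A).comap F' := fun x hx => hF x hx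
    have h2 : plus A P ^ k ≤ (MvPolynomial.idealOfVars P A ^ k).comap F' :=
      (Ideal.pow_right_mono h k).trans (Ideal.le_comap_pow F' k)
    exact h2 (hb k)
  have hFb0 : F b = 0 := by
    ext m
    have := (MvPolynomial.mem_pow_idealOfVars_iff' (m.degree + 1) (F b)).1 (hFb _) m (by omega)
    rw [this, MvPolynomial.coeff_zero]
  have := AlgHom.congr_fun hGF b
  rw [AlgHom.comp_apply, hFb0, map_zero] at this
  exact this.symm

end K933.SymInt
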