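import Groth.Agent.DiagMon.K933.FSKer
import Groth.Agent.DiagMon.K933.SymInt
import Groth.Agent.DiagMon.K933.SharpDeg
import Groth.Agent.DiagMon.K933.CotProj
import Mathlib.RingTheory.GradedAlgebra.Basic
import Mathlib.RingTheory.GradedAlgebra.Homogeneous.Ideal

/-!
# Smooth algebras graded by a fine sharp monoid are symmetric algebras over their degree `0` part
-/

set_option autoImplicit false
set_option linter.unusedSectionVars false

open DirectSum

namespace K933.GrSm

universe u

section proj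

variable {R A₀ A : Type u} [CommRing R] [CommRing A₀] [CommRing A] [Algebra R A₀] [Algebra R A]
  [Algebra A₀ A] [IsScalarTower R A₀ A]
  {N : Type*} [AddCommMonoid N] [DecidableEq N] (𝒜 : N → Submodule R A) [GradedAlgebra 𝒜]

theorem decompose_mul_zero (hN : ∀ a b : N, a + b = 0 → a = 0 ∧ b = 0) (a b : A) :
    (decompose 𝒜 (a * b) 0 : A) = decompose 𝒜 a 0 * decompose 𝒜 b 0 := by
  induction a using DirectSum.Decomposition.inductionOn 𝒜 with
  | zero => simp
  | add a a' ha ha' =>
    rw [add_mul, decompose_add, decompose_add, DirectSum.add_apply, DirectSum.add_apply, Submodule.coe_add,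
      Submodule.coe_add, ha, ha', add_mul]
  | @homogeneous i a =>
    induction b using DirectSum.Decomposition.inductionOn 𝒜 with
    | zero => simp
    | add b b' hb hb' =>
      rw [mul_add, decompose_add, decompose_add, DirectSum.add_apply, DirectSum.add_apply, Submodule.coe_add,
        Submodule.coe_add, hb, hb', mul_add]
    | @homogeneous j b =>
      have hab : (a : A) * (b : A) ∈ 𝒜 (i + j) := SetLike.mul_mem_graded a.2 b.2
      by_cases hi : i = 0
      · by_cases hj : j = 0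
        · have hij : i + j = 0 := by rw [hi, hj, add_zero]
          rw [hij] at hab
          have ha0 : (a : A) ∈ 𝒜 0 := by rw [← hi]; exact a.2
          have hb0 : (b : A) ∈ 𝒜 0 := by rw [← hj]; exact b.2
          rw [decompose_of_mem_same 𝒜 hab, decompose_of_mem_same 𝒜 ha0,
            decompose_of_mem_same 𝒜 hb0]
        · rw [decompose_of_mem_ne 𝒜 hab (fun h => hj (hN _ _ h).2),
            decompose_of_mem_ne 𝒜 b.2 hj, mul_zero]
      · rw [decompose_of_mem_ne 𝒜 hab (fun h => hi (hN _ _ h).1),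
          decompose_of_mem_ne 𝒜 a.2 hi, zero_mul]

/-- The projection onto the degree `0` part. -/
theorem exists_proj (hN : ∀ a b : N, a + b = 0 → a = 0 ∧ b = 0)
    (h0 : ∀ a : A, a ∈ 𝒜 0 ↔ a ∈ Set.range (algebraMap A₀ A))
    (hinj : Function.Injective (algebraMap A₀ A)) :
    ∃ π : A →ₐ[A₀] A₀, ∀ a : A, algebraMap A₀ A (π a) = (decompose 𝒜 a 0 : A) := by
  have hex : ∀ a : A, ∃ x : A₀, algebraMap A₀ A x = (decompose 𝒜 a 0 : A) := fun a =>
    (h0 _).1 (decompose 𝒜 a 0).2
  choose p hp using hex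
  refine ⟨{ toFun := p, map_one' := ?_, map_mul' := ?_, map_zero' := ?_, map_add' := ?_,
            commutes' := ?_ }, hp⟩
  · apply hinj
    rw [hp, map_one (algebraMap A₀ A), decompose_of_mem_same 𝒜 (SetLike.GradedOne.one_mem)]
  · intro a b
    apply hinj
    rw [hp, map_mul (algebraMap A₀ A), hp, hp, decompose_mul_zero 𝒜 hN]
  · apply hinj
    rw [hp, map_zero (algebraMap A₀ A), decompose_zero]
    rfl
  · intro a b
    apply hinj
    rw [hp, map_add (algebraMap A₀ A), hp, hp, decompose_add, DirectSum.add_apply, Submodule.coe_add]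
  · intro x
    apply hinj
    rw [hp, decompose_of_mem_same 𝒜 ((h0 _).2 ⟨x, rfl⟩)]
    rfl

end proj

section main

variable {R A₀ A : Type u} [CommRing R] [CommRing A₀] [CommRing A] [Algebra R A₀] [Algebra R A]
  [Algebra A₀ A] [IsScalarTower R A₀ A]
  {N : Type*} [AddCommMonoid N] [DecidableEq N] (𝒜 : N → Submodule R A) [GradedAlgebra 𝒜]

/-- the homogeneous components as `A₀`-linear maps -/
noncomputable def pr (h0 : ∀ a : A, a ∈ 𝒜 0 ↔ a ∈ Set.range (algebraMap A₀ A)) (n : N) :
    A →ₗ[A₀] A where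
  toFun a := (decompose 𝒜 a n : A)
  map_add' a b := by rw [decompose_add, DirectSum.add_apply, Submodule.coe_add]
  map_smul' x a := by
    rw [Algebra.smul_def, coe_decompose_mul_of_left_mem_zero 𝒜 ((h0 _).2 ⟨x, rfl⟩),
      RingHom.id_apply, Algebra.smul_def]

variable (h0 : ∀ a : A, a ∈ 𝒜 0 ↔ a ∈ Set.range (algebraMap A₀ A))

lemma pr_apply (n : N) (a : A) : pr 𝒜 h0 n a = (decompose 𝒜 a n : A) := rfl

lemma pr_same {n : N} {a : A} (ha : a ∈ 𝒜 n) : pr 𝒜 h0 n a = a :=
  decompose_of_mem_same 𝒜 ha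

lemma pr_ne {m n : N} {a : A} (ha : a ∈ 𝒜 m) (h : m ≠ n) : pr 𝒜 h0 n a = 0 :=
  decompose_of_mem_ne 𝒜 ha h

lemma pr_mem (n : N) (a : A) : pr 𝒜 h0 n a ∈ 𝒜 n := (decompose 𝒜 a n).2

lemma pr_pow_mem {I : Ideal A} (hI : ∀ n, ∀ a ∈ I, pr 𝒜 h0 n a ∈ I) (n : N) :
    ∀ a ∈ I ^ 2, pr 𝒜 h0 n a ∈ I ^ 2 := by
  have hI' : I.IsHomogeneous 𝒜 := fun n a ha => hI n a ha
  have h2 : (I ^ 2).IsHomogeneous 𝒜 := by
    rw [pow_two]
    exact hI'.mul hI'
  exact fun a ha => h2 n ha


/-- the graded section of `I → I/I²`. -/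
theorem exists_section (I : Ideal A) (hI : ∀ n, ∀ a ∈ I, pr 𝒜 h0 n a ∈ I)
    [Module.Projective A₀ I.Cotangent] [Module.Finite A₀ I.Cotangent] :
    ∃ σ : I.Cotangent →ₗ[A₀] A, ∃ hσ : ∀ p, σ p ∈ I, (∀ p, I.toCotangent ⟨σ p, hσ p⟩ = p) ∧
      ∀ n (x : I), (x : A) ∈ 𝒜 n → σ (I.toCotangent x) ∈ 𝒜 n := by
  classical
  let q : I →ₗ[A₀] I.Cotangent := (I.toCotangent).restrictScalars A₀
  have hq : Function.Surjective q := I.toCotangent_surjective
  obtain ⟨σ₀, hσ₀⟩ := Module.projective_lifting_property q LinearMap.id hq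
  have hσ₀' : ∀ p, q (σ₀ p) = p := fun p => LinearMap.congr_fun hσ₀ p
  let prI : N → (I →ₗ[A₀] I) := fun n =>
    { toFun := fun x => ⟨pr 𝒜 h0 n x, hI n x x.2⟩
      map_add' := fun x y => by
        ext
        exact map_add (pr 𝒜 h0 n) (x : A) (y : A)
      map_smul' := fun c x => by
        ext
        exact map_smul (pr 𝒜 h0 n) c (x : A) }
  have hprI : ∀ n x, ((prI n x : I) : A) = pr 𝒜 h0 n x := fun n x => rfl
  have hqeq : ∀ x y : I, q x = q y ↔ (x : A) - (y : A) ∈ I ^ 2 := fun x y => I.toCotangent_eq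
  -- passing to the components is well defined modulo `I²`
  have hcomp : ∀ n (x y : I), q x = q y → q (prI n x) = q (prI n y) := by
    intro n x y h
    rw [hqeq] at h ⊢
    rw [hprI, hprI, ← map_sub]
    exact pr_pow_mem 𝒜 h0 hI n _ h
  -- a finite set of degrees outside which everything vanishes
  obtain ⟨G, hG⟩ := (Module.Finite.fg_top (R := A₀) (M := I.Cotangent))
  let T : Finset N := G.biUnion fun p => (decompose 𝒜 ((σ₀ p : I) : A)).support
  have hT : ∀ n, n ∉ T → ∀ p, pr 𝒜 h0 n ((σ₀ p : I) : A) = 0 := by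
    intro n hn p
    have h1 : (prI n).comp σ₀ = 0 := by
      apply LinearMap.ext_on hG
      intro p hp
      ext
      rw [LinearMap.comp_apply, hprI]
      by_contra hne
      apply hn
      refine Finset.mem_biUnion.2 ⟨p, hp, ?_⟩
      rw [DFinsupp.mem_support_iff]
      intro h
      apply hne
      rw [pr_apply]
      exact congrArg Subtype.val h
    have h2 := LinearMap.congr_fun h1 p
    have h3 := congrArg (fun y : I => (y : A)) h2
    exact h3
  have hsum : ∀ p, ∑ n ∈ T, prI n (σ₀ p) = σ₀ p := by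
    intro p
    ext
    rw [AddSubmonoidClass.coe_finsetSum]
    have h1 := DirectSum.sum_support_decompose 𝒜 ((σ₀ p : I) : A)
    refine Eq.trans ?_ h1
    symm
    apply Finset.sum_subset_zero_on_sdiff
    · intro n hn
      by_contra hnT
      rw [DFinsupp.mem_support_iff] at hn
      apply hn
      ext
      exact hT n hnT p
    · intro n hn
      have := (Finset.mem_sdiff.1 hn).2
      rw [DFinsupp.mem_support_iff, not_not] at this
      rw [hprI, pr_apply, this]
      rfl
    · intro n _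
      rfl
  let σI : I.Cotangent →ₗ[A₀] I := ∑ n ∈ T, (prI n).comp (σ₀.comp (q.comp ((prI n).comp σ₀)))
  have hσI : ∀ p, σI p = ∑ n ∈ T, prI n (σ₀ (q (prI n (σ₀ p)))) := by
    intro p
    rw [LinearMap.sum_apply]
    rfl
  have hcl : ∀ n p, q (prI n (σ₀ (q (prI n (σ₀ p))))) = q (prI n (σ₀ p)) := by
    intro n p
    have h1 := hcomp n (σ₀ (q (prI n (σ₀ p)))) (prI n (σ₀ p)) (hσ₀' _)
    rw [h1]
    congr 1
    ext
    rw [hprI, hprI]
    exact pr_same 𝒜 h0 (pr_mem 𝒜 h0 n _)
  refine ⟨(Submodule.subtype (I.restrictScalars A₀)).comp σI, fun p => (σI p).2, ?_, ?_⟩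
  · intro p
    have h1 : q (σI p) = p := by
      rw [hσI, map_sum]
      calc ∑ n ∈ T, q (prI n (σ₀ (q (prI n (σ₀ p))))) = ∑ n ∈ T, q (prI n (σ₀ p)) :=
            Finset.sum_congr rfl fun n _ => hcl n p
        _ = q (∑ n ∈ T, prI n (σ₀ p)) := (map_sum q _ _).symm
        _ = p := by rw [hsum, hσ₀']
    exact h1
  · intro m x hx
    change ((σI (q x) : I) : A) ∈ 𝒜 m
    rw [hσI, AddSubmonoidClass.coe_finsetSum]
    apply Submodule.sum_mem
    intro n _
    rw [hprI]
    by_cases hnm : n = m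
    · rw [hnm]
      exact pr_mem 𝒜 h0 m _
    · have h1 : q (prI n (σ₀ (q x))) = 0 := by
        rw [hcomp n (σ₀ (q x)) x (hσ₀' _)]
        have : prI n x = 0 := by
          ext
          rw [hprI]
          exact pr_ne 𝒜 h0 hx (fun h => hnm h.symm)
        rw [this, map_zero]
      rw [h1, map_zero]
      have : pr 𝒜 h0 n ((0 : I) : A) = 0 := map_zero _
      rw [this]
      exact Submodule.zero_mem _

end main

end K933.GrSm
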