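import Groth.Agent.DiagMon.K933.GrSm

/-!
# Smooth algebras graded by a fine sharp monoid: the main theorem
-/

set_option autoImplicit false
set_option linter.unusedSectionVars false

open DirectSum K933.SymInt

namespace K933.GrSmMain

universe u

open K933.GrSm

variable {R A₀ A : Type u} [CommRing R] [CommRing A₀] [CommRing A] [Algebra R A₀] [Algebra R A]
  [Algebra A₀ A] [IsScalarTower R A₀ A]

/-- the injectivity statement -/
theorem lift_injective [Algebra.FormallySmooth R A] (π : A →ₐ[A₀] A₀) (I : Ideal A)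
    (hmem : ∀ a : A, a ∈ I ↔ π a = 0) [Module.Projective A₀ I.Cotangent]
    (σ : I.Cotangent →ₗ[A₀] A) (hσ : ∀ p, σ p ∈ I)
    (hσ2 : ∀ p, I.toCotangent ⟨σ p, hσ p⟩ = p) :
    Function.Injective (SymmetricAlgebra.lift σ) := by
  set φ := SymmetricAlgebra.lift σ with hφ
  have hφι : ∀ p, φ (SymmetricAlgebra.ι A₀ _ p) = σ p := fun p => SymmetricAlgebra.lift_ι_apply σ p
  have hπφ : π.comp φ = SymmetricAlgebra.algebraMapInv := by
    apply SymmetricAlgebra.algHom_ext
    ext p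
    change π (φ (SymmetricAlgebra.ι A₀ _ p)) = SymmetricAlgebra.algebraMapInv (SymmetricAlgebra.ι A₀ _ p)
    rw [hφι, SymmetricAlgebra.algebraMapInv_ι]
    exact (hmem _).1 (hσ p)
  have hJ : ∀ b ∈ plus A₀ I.Cotangent, φ b ∈ I := by
    intro b hb
    rw [hmem]
    exact (AlgHom.congr_fun hπφ b).trans hb
  have hJ2 : ∀ b ∈ plus A₀ I.Cotangent ^ 2, φ b ∈ I ^ 2 := by
    intro b hb
    have h : plus A₀ I.Cotangent ≤ I.comap (φ : SymmetricAlgebra A₀ I.Cotangent →+* A) :=
      fun b hb => hJ b hb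
    exact Ideal.le_comap_pow (φ : SymmetricAlgebra A₀ I.Cotangent →+* A) 2
      (Ideal.pow_right_mono h 2 hb)
  let _ : Algebra R (SymmetricAlgebra A₀ I.Cotangent) :=
    ((algebraMap A₀ (SymmetricAlgebra A₀ I.Cotangent)).comp (algebraMap R A₀)).toAlgebra
  let φ' : SymmetricAlgebra A₀ I.Cotangent →ₐ[R] A :=
    { (φ : SymmetricAlgebra A₀ I.Cotangent →+* A) with
      commutes' := fun r => by
        change φ (algebraMap A₀ _ (algebraMap R A₀ r)) = algebraMap R A r
        rw [φ.commutes, IsScalarTower.algebraMap_apply R A₀ A] }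
  have hφ' : ∀ b, φ' b = φ b := fun b => rfl
  rw [injective_iff_map_eq_zero]
  intro b hb
  apply eq_zero_of_forall_mem_pow
  intro k
  refine FSKer.ker_le_pow φ' (plus A₀ I.Cotangent) I hJ ?_ ?_ k b hb
  · intro b hb
    rw [hφ'] at hb
    obtain ⟨a, p, hc⟩ := exists_first_order b
    have h1 := hJ2 _ hc
    rw [map_sub, map_sub, φ.commutes, hφι] at h1
    have h2 : algebraMap A₀ A a + σ p ∈ I ^ 2 := by
      have h3 := Ideal.sub_mem _ hb h1
      have h4 : φ b - (φ b - algebraMap A₀ A a - σ p) = algebraMap A₀ A a + σ p := by ring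
      rwa [h4] at h3
    have h3 : a = 0 := by
      have h4 : algebraMap A₀ A a + σ p ∈ I := Ideal.pow_le_self (by norm_num) h2
      rw [hmem, map_add, (hmem _).1 (hσ p), add_zero, π.commutes] at h4
      exact h4
    rw [h3, map_zero, zero_add] at h2
    have h4 : p = 0 := by
      rw [← hσ2 p]
      exact (Ideal.toCotangent_eq_zero I ⟨σ p, hσ p⟩).2 h2
    rw [h3, h4, map_zero, map_zero, sub_zero, sub_zero] at hc
    exact hc
  · intro a
    have h1 : a - algebraMap A₀ A (π a) ∈ I := by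
      rw [hmem, map_sub, π.commutes]
      exact sub_self _
    refine ⟨algebraMap A₀ _ (π a) + SymmetricAlgebra.ι A₀ _ (I.toCotangent ⟨_, h1⟩), ?_⟩
    rw [hφ', map_add, φ.commutes, hφι]
    have h2 := (I.toCotangent_eq (x := ⟨a - algebraMap A₀ A (π a), h1⟩)
      (y := ⟨σ (I.toCotangent ⟨_, h1⟩), hσ _⟩)).1 (hσ2 _).symm
    have h3 : a - (algebraMap A₀ A (π a) + σ (I.toCotangent ⟨_, h1⟩)) =
      (a - algebraMap A₀ A (π a)) - σ (I.toCotangent ⟨_, h1⟩) := by ring
    rw [h3]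
    exact h2

variable {N : Type*} [AddCommMonoid N] [DecidableEq N] (𝒜 : N → Submodule R A) [GradedAlgebra 𝒜]

/-- components of an element of `I²`. -/
theorem pr_mem_of_mem_sq (h0 : ∀ a : A, a ∈ 𝒜 0 ↔ a ∈ Set.range (algebraMap A₀ A))
    (ℓ : N → ℕ) (hℓ : ∀ a b : N, b ≠ 0 → ℓ a < ℓ (a + b))
    (C : Subalgebra A₀ A) (I : Ideal A) (hI : ∀ a ∈ I, (decompose 𝒜 a 0 : A) = 0) (n : N)
    (hC : ∀ m, ℓ m < ℓ n → ∀ a ∈ 𝒜 m, a ∈ C) (x : A) (hx : x ∈ I ^ 2) : pr 𝒜 h0 n x ∈ C := by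
  classical
  rw [pow_two] at hx
  refine Submodule.mul_induction_on hx ?_ ?_
  · intro y hy z hz
    have hy0 : ∀ i ∈ (decompose 𝒜 y).support, i ≠ 0 := by
      rintro i hi rfl
      rw [DFinsupp.mem_support_iff] at hi
      exact hi (Subtype.ext (hI y hy))
    have hz0 : ∀ i ∈ (decompose 𝒜 z).support, i ≠ 0 := by
      rintro i hi rfl
      rw [DFinsupp.mem_support_iff] at hi
      exact hi (Subtype.ext (hI z hz))
    rw [← DirectSum.sum_support_decompose 𝒜 y, ← DirectSum.sum_support_decompose 𝒜 z,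
      Finset.sum_mul_sum, map_sum]
    apply Subalgebra.sum_mem
    intro i hi
    rw [map_sum]
    apply Subalgebra.sum_mem
    intro j hj
    have hij : (decompose 𝒜 y i : A) * (decompose 𝒜 z j : A) ∈ 𝒜 (i + j) :=
      SetLike.mul_mem_graded (decompose 𝒜 y i).2 (decompose 𝒜 z j).2
    by_cases hn : i + j = n
    · rw [← hn, pr_same 𝒜 h0 hij]
      apply Subalgebra.mul_mem
      · apply hC i _ _ (decompose 𝒜 y i).2
        rw [← hn]
        exact hℓ i j (hz0 j hj)
      · apply hC j _ _ (decompose 𝒜 z j).2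
        rw [← hn, add_comm]
        exact hℓ j i (hy0 i hi)
    · rw [pr_ne 𝒜 h0 hij hn]
      exact C.zero_mem
  · intro y z hy hz
    rw [map_add]
    exact C.add_mem hy hz

theorem main [Algebra.Smooth R A] [AddMonoid.FG N] [IsCancelAdd N]
    (hsharp : ∀ n : N, IsAddUnit n → n = 0)
    (h0 : ∀ a : A, a ∈ 𝒜 0 ↔ a ∈ Set.range (algebraMap A₀ A))
    (hinj : Function.Injective (algebraMap A₀ A)) :
    ∃ (P : Type u) (_ : AddCommGroup P) (_ : Module A₀ P), Module.Finite A₀ P ∧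
      Module.Projective A₀ P ∧ Nonempty (A ≃ₐ[A₀] SymmetricAlgebra A₀ P) := by
  classical
  have hN : ∀ a b : N, a + b = 0 → a = 0 ∧ b = 0 := fun a b h =>
    SharpDeg.eq_zero_of_add_eq_zero hsharp h
  obtain ⟨π, hπ⟩ := exists_proj 𝒜 hN h0 hinj
  obtain ⟨ℓ, hℓ⟩ := SharpDeg.exists_degree hsharp
  obtain ⟨hproj, hfin⟩ := CotProj.projective_cotangent R A₀ A π
  set I := RingHom.ker (π : A →+* A₀) with hI
  have hmem : ∀ a : A, a ∈ I ↔ (decompose 𝒜 a 0 : A) = 0 := by
    intro a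
    rw [← hπ a]
    constructor
    · intro h
      have : π a = 0 := h
      rw [this, map_zero]
    · intro h
      exact hinj (h.trans (map_zero _).symm)
  have hIpr : ∀ n, ∀ a ∈ I, pr 𝒜 h0 n a ∈ I := by
    intro n a ha
    rw [hmem] at ha ⊢
    by_cases hn : n = 0
    · subst hn
      rw [pr_apply, ha, decompose_zero]
      rfl
    · exact decompose_of_mem_ne 𝒜 (pr_mem 𝒜 h0 n a) hn
  obtain ⟨σ, hσ, hσ2, hσ3⟩ := exists_section 𝒜 h0 I hIpr
  have hφinj := lift_injective (R := R) π I (fun _ => Iff.rfl) σ hσ hσ2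
  set φ := SymmetricAlgebra.lift σ with hφ
  have hφι : ∀ p, φ (SymmetricAlgebra.ι A₀ _ p) = σ p := fun p => SymmetricAlgebra.lift_ι_apply σ p
  -- surjectivity
  have hrange : ∀ (k : ℕ) (n : N), ℓ n < k → ∀ a ∈ 𝒜 n, a ∈ φ.range := by
    intro k
    induction k with
    | zero => intro n hn; omega
    | succ k ih =>
      intro n hn a ha
      by_cases hn0 : n = 0
      · subst hn0
        obtain ⟨x, rfl⟩ := (h0 a).1 ha
        exact φ.range.algebraMap_mem x
      · have haI : a ∈ I := by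
          rw [hmem]
          exact decompose_of_mem_ne 𝒜 ha hn0
        have h1 : σ (I.toCotangent ⟨a, haI⟩) ∈ 𝒜 n := hσ3 n ⟨a, haI⟩ ha
        have h2 : a - σ (I.toCotangent ⟨a, haI⟩) ∈ I ^ 2 :=
          (I.toCotangent_eq (x := ⟨a, haI⟩) (y := ⟨σ (I.toCotangent ⟨a, haI⟩), hσ _⟩)).1 (hσ2 _).symm
        have h3 : a - σ (I.toCotangent ⟨a, haI⟩) ∈ 𝒜 n := Submodule.sub_mem _ ha h1
        have h4 := pr_mem_of_mem_sq 𝒜 h0 ℓ hℓ φ.range I (fun a ha => (hmem a).1 ha) n
          (fun m hm => ih m (by omega)) _ h2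
        rw [pr_same 𝒜 h0 h3] at h4
        have h5 : σ (I.toCotangent ⟨a, haI⟩) ∈ φ.range := ⟨SymmetricAlgebra.ι A₀ _ _, hφι _⟩
        have h6 := φ.range.add_mem h4 h5
        rwa [sub_add_cancel] at h6
  have hφsurj : Function.Surjective φ := by
    intro a
    have h1 : a ∈ φ.range := by
      rw [← DirectSum.sum_support_decompose 𝒜 a]
      apply Subalgebra.sum_mem
      intro n _
      exact hrange (ℓ n + 1) n (by omega) _ (decompose 𝒜 a n).2
    exact h1
  exact ⟨I.Cotangent, inferInstance, inferInstance, hfin, hproj,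
    ⟨(AlgEquiv.ofBijective φ ⟨hφinj, hφsurj⟩).symm⟩⟩

end K933.GrSmMain
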